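import Cfsg.Agent.H613.KKL.Defs

/-!
# S4546, sporadic rows: tools (helper489)

`Cfg0 D x`; `t` an element, `N` a normal 2-subgroup of `C(t)`. No element of `D` is conjugate to `t` if

* `no_exp` : `N` has an element of order 4;
* `no_card` : `8 < |N|`;
* `no_mix` : `N` has an involution not conjugate to `t`;
* `no_four` : `|N| = 4` and `N(N)` is transitive on the involutions of `N`.
-/

set_option autoImplicit false

namespace Cfsg.Agent.H489.KKL

open Cfsg Subgroup Cfsg.Agent.H613.KKL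

variable {S : Type*} [Group S]

/-- `N` is a normal 2-subgroup of `C(t)` -/
structure Nor (t : S) (N : Subgroup S) : Prop where
  two : IsPGroup 2 N
  le : ∀ n ∈ N, n * t = t * n
  nor : ∀ c : S, c * t = t * c → ∀ n ∈ N, c * n * c⁻¹ ∈ N

/-- the conjugate subgroup -/
def cj (g : S) (N : Subgroup S) : Subgroup S := N.map (MulAut.conj g).toMonoidHom

theorem mem_cj {g : S} {N : Subgroup S} {a : S} : a ∈ cj g N ↔ g⁻¹ * a * g ∈ N := by
  unfold cj
  rw [mem_map]
  constructor
  · rintro ⟨n, hn, rfl⟩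
    have : g⁻¹ * (MulAut.conj g).toMonoidHom n * g = n := by
      show g⁻¹ * (g * n * g⁻¹) * g = n
      group
    rwa [this]
  · intro h
    exact ⟨_, h, by show g * (g⁻¹ * a * g) * g⁻¹ = a; group⟩

theorem cj_mem {g : S} {N : Subgroup S} {a : S} (h : a ∈ N) : g * a * g⁻¹ ∈ cj g N := by
  rw [mem_cj]
  have : g⁻¹ * (g * a * g⁻¹) * g = a := by group
  rwa [this]

theorem card_cj (g : S) (N : Subgroup S) : Nat.card (cj g N) = Nat.card N :=
  (Nat.card_congr (N.equivMapOfInjective _ (MulAut.conj g).injective).toEquiv).symm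

theorem Nor.cj {t : S} {N : Subgroup S} (h : Nor t N) (g : S) : Nor (g * t * g⁻¹) (cj g N) where
  two := h.two.map _
  le := by
    intro n hn
    rw [mem_cj] at hn
    have h1 := h.le _ hn
    calc n * (g * t * g⁻¹) = g * ((g⁻¹ * n * g) * t) * g⁻¹ := by group
      _ = g * (t * (g⁻¹ * n * g)) * g⁻¹ := by rw [h1]
      _ = g * t * g⁻¹ * n := by group
  nor := by
    intro c hc n hn
    rw [mem_cj] at hn ⊢
    have h1 := h.nor (g⁻¹ * c * g) (by
      calc g⁻¹ * c * g * t = g⁻¹ * (c * (g * t * g⁻¹)) * g := by group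
        _ = g⁻¹ * (g * t * g⁻¹ * c) * g := by rw [hc]
        _ = t * (g⁻¹ * c * g) := by group) _ hn
    have e : g⁻¹ * c * g * (g⁻¹ * n * g) * (g⁻¹ * c * g)⁻¹ = g⁻¹ * (c * n * c⁻¹) * g := by group
    rwa [e] at h1

variable {D : Subgroup S} {x : S}

/-- `D` is pure -/
theorem isConj (h : Cfg0 D x) {a b : S} (ha : a ∈ D) (ha1 : a ≠ 1) (hb : b ∈ D) (hb1 : b ≠ 1) : IsConj a b := by
  obtain ⟨y, hy⟩ := h.seven
  obtain ⟨k, hk⟩ := hy.trans a ha ha1 b hb hb1
  exact isConj_iff.2 ⟨_, hk⟩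

theorem le_D (h : Cfg0 D x) {z : S} (hz : z ∈ D) {N : Subgroup S} (hN : Nor z N) : N ≤ D := by
  have hc : ∀ c : S, c ∈ centralizer ((zpowers z : Subgroup S) : Set S) ↔ c * z = z * c := by
    intro c
    rw [mem_centralizer_iff]
    constructor
    · intro h1
      exact (h1 z (mem_zpowers z)).symm
    · rintro h1 w hw
      obtain ⟨k, rfl⟩ := mem_zpowers_iff.1 hw
      exact (Commute.zpow_right (show Commute c z from h1) k).symm.eq
  exact h.rad (zpowers z) (by rwa [zpowers_le]) N hN.two (fun n hn => (hc n).2 (hN.le n hn))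
    (fun c hcc n hn => hN.nor c ((hc c).1 hcc) n hn)

/-- kill: an element of order 4 -/
theorem no_exp (h : Cfg0 D x) {t : S} {N : Subgroup S} (hN : Nor t N) {n : S} (hn : n ∈ N) (hn2 : n * n ≠ 1) :
    ∀ z ∈ D, ¬ IsConj t z := by
  intro z hz hc
  obtain ⟨g, rfl⟩ := isConj_iff.1 hc
  have h1 := h.e8.inv _ (le_D h hz (hN.cj g) (cj_mem hn))
  apply hn2
  have e : g * (n * n) * g⁻¹ = 1 := by rw [← h1]; group
  calc n * n = g⁻¹ * (g * (n * n) * g⁻¹) * g := by group
    _ = 1 := by rw [e]; group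

/-- kill: order at least 9 -/
theorem no_card (h : Cfg0 D x) {t : S} {N : Subgroup S} (hN : Nor t N) (h9 : 8 < Nat.card N) :
    ∀ z ∈ D, ¬ IsConj t z := by
  intro z hz hc
  obtain ⟨g, rfl⟩ := isConj_iff.1 hc
  have h1 := le_D h hz (hN.cj g)
  have : Finite D := Nat.finite_of_card_ne_zero (by rw [h.e8.card]; norm_num)
  have h2 := Subgroup.card_le_of_le h1
  rw [card_cj, h.e8.card] at h2
  omega

/-- kill: an involution of another class -/
theorem no_mix (h : Cfg0 D x) {t : S} {N : Subgroup S} (hN : Nor t N) {n : S} (hn : n ∈ N) (hn1 : n ≠ 1)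
    (hc : ¬ IsConj t n) : ∀ z ∈ D, z ≠ 1 → ¬ IsConj t z := by
  intro z hz hz1 hcz
  obtain ⟨g, rfl⟩ := isConj_iff.1 hcz
  have h1 := le_D h hz (hN.cj g) (cj_mem (g := g) hn)
  have h2 : g * n * g⁻¹ ≠ 1 := by
    intro h3
    exact hn1 (conj_eq_one_iff.1 h3)
  have h3 := isConj h hz hz1 h1 h2
  exact hc (hcz.trans (h3.trans (isConj_iff.2 ⟨g, rfl⟩ : IsConj n (g * n * g⁻¹)).symm))

/-- kill: four-groups -/
theorem no_four (h : Cfg0 D x) {t : S} {N : Subgroup S} (hN : Nor t N) (h4 : Nat.card N = 4) (ht : t ∈ N)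
    (hf : ∀ s ∈ N, s ≠ 1 → ∃ g : S, g * t * g⁻¹ = s ∧ ∀ n, n ∈ N ↔ g * n * g⁻¹ ∈ N) :
    ∀ z ∈ D, z ≠ 1 → ¬ IsConj t z := by
  classical
  intro z hz hz1 hc
  have : Finite D := Nat.finite_of_card_ne_zero (by rw [h.e8.card]; norm_num)
  -- the four-groups
  have hT : ∀ d ∈ D, d ≠ 1 → ∃ g : S, g * t * g⁻¹ = d := by
    intro d hd hd1
    exact isConj_iff.1 (hc.trans (isConj h hz hz1 hd hd1))
  have hle : ∀ g : S, g * t * g⁻¹ ∈ D → cj g N ≤ D := fun g hg => le_D h hg (hN.cj g)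
  -- equal if they share an involution
  have heq : ∀ g : S, ∀ s ∈ cj g N, s ≠ 1 → ∀ k : S, k * t * k⁻¹ = s → cj k N = cj g N := by
    intro g s hs hs1 k hk
    rw [mem_cj] at hs
    obtain ⟨a, ha, ha'⟩ := hf _ hs (fun h1 => hs1 (by
      calc s = g * (g⁻¹ * s * g) * g⁻¹ := by group
        _ = 1 := by rw [h1]; group))
    have h1 : g * a * t * (g * a)⁻¹ = s := by
      calc g * a * t * (g * a)⁻¹ = g * (a * t * a⁻¹) * g⁻¹ := by group
        _ = s := by rw [ha]; group
    -- `c = (g a)⁻¹ k` centralises `t`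
    have hcom : ((g * a)⁻¹ * k) * t = t * ((g * a)⁻¹ * k) := by
      have h2 : k * t = s * k := by rw [← hk]; group
      have h3 : (g * a)⁻¹ * s = t * (g * a)⁻¹ := by rw [← h1]; group
      calc ((g * a)⁻¹ * k) * t = (g * a)⁻¹ * (k * t) := by group
        _ = (g * a)⁻¹ * s * k := by rw [h2]; group
        _ = _ := by rw [h3]; group
    have hcom' : ((g * a)⁻¹ * k)⁻¹ * t = t * ((g * a)⁻¹ * k)⁻¹ := by
      have h2 : Commute ((g * a)⁻¹ * k) t := hcom
      exact h2.inv_left.eq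
    ext u
    rw [mem_cj, mem_cj]
    constructor
    · intro hu
      have h2 := hN.nor _ hcom _ hu
      have e : (g * a)⁻¹ * k * (k⁻¹ * u * k) * ((g * a)⁻¹ * k)⁻¹ = a⁻¹ * (g⁻¹ * u * g) * a := by group
      rw [e] at h2
      have h3 := (ha' _).1 h2
      have e' : a * (a⁻¹ * (g⁻¹ * u * g) * a) * a⁻¹ = g⁻¹ * u * g := by group
      rwa [e'] at h3
    · intro hu
      have h2 : a⁻¹ * (g⁻¹ * u * g) * a ∈ N := by
        rw [ha']
        have e' : a * (a⁻¹ * (g⁻¹ * u * g) * a) * a⁻¹ = g⁻¹ * u * g := by group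
        rwa [e']
      have h3 := hN.nor _ hcom' _ h2
      have e : ((g * a)⁻¹ * k)⁻¹ * (a⁻¹ * (g⁻¹ * u * g) * a) * ((g * a)⁻¹ * k)⁻¹⁻¹ = k⁻¹ * u * k := by group
      rwa [e] at h3
  obtain ⟨g, hg⟩ := hT z hz hz1
  have hg' : cj g N ≤ D := hle g (by rwa [hg])
  -- an element outside
  obtain ⟨w, hw, hwn⟩ : ∃ w ∈ D, w ∉ cj g N := by
    by_contra hno
    push Not at hno
    have h1 : cj g N = D := le_antisymm hg' hno
    have h2 := card_cj g N
    rw [h1, h.e8.card, h4] at h2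
    norm_num at h2
  have hw1 : w ≠ 1 := fun h1 => hwn (h1 ▸ one_mem _)
  obtain ⟨k, hk⟩ := hT w hw hw1
  have hk' : cj k N ≤ D := hle k (by rwa [hk])
  -- they meet
  obtain ⟨s, hs1, hsg, hsk⟩ : ∃ s : S, s ≠ 1 ∧ s ∈ cj g N ∧ s ∈ cj k N := by
    by_contra hno
    push Not at hno
    have hdis : Disjoint (cj g N) (cj k N) := by
      rw [Subgroup.disjoint_def]
      intro s h1 h2
      by_contra hs
      exact hno s hs h1 h2
    have hinj := Subgroup.mul_injective_of_disjoint hdis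
    let f : (cj g N) × (cj k N) → D := fun p => ⟨(p.1 : S) * p.2, mul_mem (hg' p.1.2) (hk' p.2.2)⟩
    have hf' : Function.Injective f := by
      intro p q hpq
      exact hinj (congrArg Subtype.val hpq)
    have h5 := Nat.card_le_card_of_injective f hf'
    rw [Nat.card_prod, card_cj, card_cj, h4, h.e8.card] at h5
    norm_num at h5
  obtain ⟨l, hl⟩ := hT s (hg' hsg) hs1
  have h5 := heq g s hsg hs1 l hl
  have h6 := heq k s hsk hs1 l hl
  apply hwn
  rw [← h5, h6, ← hk]
  exact cj_mem ht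

/-! ### transport -/

theorem cfg_map {S' : Type*} [Group S'] (e : S ≃* S') (h : Cfg0 D x) : Cfg0 (D.map e.toMonoidHom) (e x) where
  e8 := {
    card := by
      rw [← h.e8.card]
      exact (Nat.card_congr (D.equivMapOfInjective _ e.injective).toEquiv).symm
    inv := by
      rintro _ ⟨d, hd, rfl⟩
      show e d * e d = 1
      rw [← map_mul, h.e8.inv d hd, map_one] }
  odd := by rw [MulEquiv.orderOf_eq]; exact h.odd
  comm := by
    rintro _ ⟨d, hd, rfl⟩
    show e d * e x = e x * e d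
    rw [← map_mul, h.comm d hd, map_mul]
  syl := by
    intro Q hQ hQc
    obtain ⟨c, hc, hc'⟩ := h.syl (Q.map e.symm.toMonoidHom) (hQ.map _) (by
      rintro _ ⟨q, hq, rfl⟩
      apply e.injective
      rw [map_mul, map_mul]
      show e (e.symm q) * e x = e x * e (e.symm q)
      rw [e.apply_symm_apply]
      exact hQc q hq)
    refine ⟨e c, by rw [← map_mul, hc, map_mul], fun q hq => ?_⟩
    refine ⟨_, hc' (e.symm q) ⟨q, hq, rfl⟩, ?_⟩
    show e (c * e.symm q * c⁻¹) = _
    rw [map_mul, map_mul, map_inv, e.apply_symm_apply]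
  seven := by
    obtain ⟨y, hy⟩ := h.seven
    refine ⟨e y, ?_, ?_, ?_⟩
    · intro d
      rw [mem_map_equiv, mem_map_equiv]
      have h1 := hy.norm (e.symm d)
      have e1 : e.symm (e y * d * (e y)⁻¹) = y * e.symm d * y⁻¹ := by
        rw [map_mul, map_mul, map_inv, e.symm_apply_apply]
      rw [e1]
      exact h1
    · obtain ⟨m, hm⟩ := hy.seven
      exact ⟨m, by rw [MulEquiv.orderOf_eq]; exact hm⟩
    · rintro _ ⟨a, ha, rfl⟩ ha1 _ ⟨b, hb, rfl⟩ hb1
      obtain ⟨k, hk⟩ := hy.trans a ha (fun h1 => ha1 (by rw [h1, map_one])) b hb (fun h1 => hb1 (by rw [h1, map_one]))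
      refine ⟨k, ?_⟩
      show e y ^ k * e a * (e y ^ k)⁻¹ = e b
      rw [← hk, map_mul, map_mul, map_inv, map_pow]
  rad := by
    intro R hR N hN hNR hNn
    have hmem : ∀ c : S, (∀ r ∈ R, e.symm r * c = c * e.symm r) ↔ e c ∈ centralizer (R : Set S') := by
      intro c
      rw [mem_centralizer_iff]
      constructor
      · intro h1 r hr
        have h2 := congrArg e (h1 r hr)
        rwa [map_mul, map_mul, e.apply_symm_apply] at h2
      · intro h1 r hr
        apply e.injective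
        rw [map_mul, map_mul, e.apply_symm_apply]
        exact h1 r hr
    have hcen : ∀ c : S, c ∈ centralizer ((R.map e.symm.toMonoidHom : Subgroup S) : Set S) ↔
        e c ∈ centralizer (R : Set S') := by
      intro c
      rw [← hmem, mem_centralizer_iff]
      constructor
      · intro h1 r hr
        exact h1 _ ⟨r, hr, rfl⟩
      · rintro h1 _ ⟨r, hr, rfl⟩
        exact h1 r hr
    have h1 := h.rad (R.map e.symm.toMonoidHom) (by
      rintro _ ⟨r, hr, rfl⟩
      obtain ⟨d, hd, hd'⟩ := hR hr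
      have : e.symm.toMonoidHom r = d := by
        rw [← hd']
        exact e.symm_apply_apply d
      rw [this]
      exact hd) (N.map e.symm.toMonoidHom) (hN.map _) (by
      rintro _ ⟨n, hn, rfl⟩
      rw [hcen]
      have : e (e.symm.toMonoidHom n) = n := e.apply_symm_apply n
      rw [this]
      exact hNR hn) (by
      rintro c hc _ ⟨n, hn, rfl⟩
      rw [hcen] at hc
      refine ⟨e c * n * (e c)⁻¹, hNn _ hc n hn, ?_⟩
      show e.symm (e c * n * (e c)⁻¹) = c * e.symm n * c⁻¹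
      rw [map_mul, map_mul, map_inv, e.symm_apply_apply])
    intro n hn
    exact ⟨e.symm n, h1 ⟨n, hn, rfl⟩, e.apply_symm_apply n⟩

theorem noCfg_congr {S' : Type*} [Group S'] (e : S ≃* S') (h : NoCfg S') : NoCfg S :=
  fun _ _ hc => h _ _ (cfg_map e hc)

/-- the final form -/
theorem noCfg_of (h : ∀ (D : Subgroup S) (x : S), Cfg0 D x → ∀ z ∈ D, z ≠ 1 → False) : NoCfg S := by
  intro D x hc
  have h1 : D ≠ ⊥ := by
    intro h2
    have h3 := hc.e8.card
    rw [h2] at h3
    simp at h3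
  obtain ⟨z, hz⟩ := Subgroup.ne_bot_iff_exists_ne_one.1 h1
  exact h D x hc z z.2 (fun h2 => hz (Subtype.ext h2))

end Cfsg.Agent.H489.KKL
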