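import Cfsg.Agent.H489.KKL.Kill
import Cfsg.Agent.H436.TwoRu
import Cfsg.Agent.OddHalf.D9.Ru.XfRes
import Cfsg.Agent.H805.NilRu

/-!
# S4546, row Ru (helper489)

2A : `O_2(C(z))` has elements of order 4; 2B : `C(z) = 2² × Sz(8)`.
-/

set_option autoImplicit false

namespace Cfsg.Agent.H489.KKL.RuRow

open Cfsg Subgroup Cfsg.Agent.H613.KKL Cfsg.Agent.SporadicB Cfsg.Agent.RuD.Letters Cfsg.Agent.RuD.Model

theorem nor_A : Nor (S * S : RuOrder.H) OddHalf.D9.Ru.XR.R := by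
  have F := OddHalf.D9.Ru.XfRes.xf
  refine ⟨F.R_two, fun n hn => mem_centralizer_singleton_iff.1 (F.P1_le (F.R_le hn)), fun c hc n hn => ?_⟩
  have hc' : c ∈ centralizer ({(S * S : RuOrder.H)} : Set RuOrder.H) := mem_centralizer_singleton_iff.2 hc
  refine F.R_max (cj c OddHalf.D9.Ru.XR.R) ?_ (F.R_two.map _) ?_ (cj_mem hn)
  · intro a ha
    rw [mem_cj] at ha
    have h1 := F.nor c hc' _ (F.R_le ha)
    have e : c * (c⁻¹ * a * c) * c⁻¹ = a := by group
    rwa [e] at h1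
  · intro g hg a ha
    rw [mem_cj] at ha ⊢
    have h1 := F.nor c⁻¹ (inv_mem hc') g hg
    have h2 := F.R_nor _ h1 _ ha
    have e : c⁻¹ * g * c⁻¹⁻¹ * (c⁻¹ * a * c) * (c⁻¹ * g * c⁻¹⁻¹)⁻¹ = c⁻¹ * (g * a * g⁻¹) * c := by group
    rwa [e] at h2

section B

open Cfsg.Agent.RuB Cfsg.Agent.RuB.Core

variable (C : Core RuOrder.H)

theorem cen_L {l : RuOrder.H} (hl : l ∈ C.L) (h : ∀ m ∈ C.L, l * m = m * l) : l = 1 := by
  have := H436.TwoRu.finite_H
  have : Fact (Nat.Prime 13) := ⟨by norm_num⟩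
  by_contra h1
  have hL := Count.card_L (C := C)
  obtain ⟨y, hy⟩ := exists_prime_orderOf_dvd_card' (G := C.L) 13 (by rw [hL]; norm_num)
  have hy' : orderOf (y : RuOrder.H) = 13 := by rw [Subgroup.orderOf_coe, hy]
  have hcy := H436.TwoRu.cent13 _ hy'
  -- the elements `v c * y ^ k`
  have hcl : l ∈ centralizer ({(y : RuOrder.H)} : Set RuOrder.H) := mem_centralizer_singleton_iff.2 (h _ y.2)
  let f : A4 × zpowers (y : RuOrder.H) → centralizer ({(y : RuOrder.H)} : Set RuOrder.H) := fun p =>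
    ⟨C.v p.1 * p.2, mem_centralizer_singleton_iff.2 (by
      obtain ⟨k, hk⟩ := mem_zpowers_iff.1 p.2.2
      have h2 : (p.2 : RuOrder.H) * y = y * p.2 := by
        rw [← hk]; exact ((Commute.refl (y : RuOrder.H)).zpow_left k).eq
      have h3 := C.v_comm p.1 _ y.2
      calc C.v p.1 * p.2 * y = C.v p.1 * (p.2 * y) := by group
        _ = (C.v p.1 * y) * p.2 := by rw [h2]; group
        _ = y * (C.v p.1 * p.2) := by rw [h3]; group)⟩
  have hzl : ∀ p : zpowers (y : RuOrder.H), (p : RuOrder.H) ∈ C.L := fun p =>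
    (zpowers_le.2 y.2 : zpowers (y : RuOrder.H) ≤ C.L) p.2
  have hinj : Function.Injective f := by
    rintro ⟨a, p⟩ ⟨b, q⟩ hpq
    have h2 := C.vl_inj (hzl p) (hzl q) (congrArg Subtype.val hpq)
    exact Prod.ext h2.1 (Subtype.ext h2.2)
  have hcard : Nat.card (A4 × zpowers (y : RuOrder.H)) = 52 := by
    rw [Nat.card_prod, Nat.card_zpowers, hy', Nat.card_prod, Nat.card_eq_fintype_card, ZMod.card]
  have hle := Nat.card_le_card_of_injective f hinj
  have hcc : Nat.card (centralizer ({(y : RuOrder.H)} : Set RuOrder.H)) = 52 := by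
    have h2 := Nat.le_of_dvd (by norm_num) hcy
    rw [hcard] at hle
    omega
  have hbij : Function.Bijective f := hinj.bijective_of_nat_card_le (by rw [hcard, hcc])
  obtain ⟨⟨a, p⟩, hp⟩ := hbij.2 ⟨l, hcl⟩
  have hp' : C.v a * p = l := congrArg Subtype.val hp
  have ha : a = 0 := C.v_notin a (by
    have : C.v a = l * (p : RuOrder.H)⁻¹ := by rw [← hp']; group
    rw [this]
    exact mul_mem hl (inv_mem (hzl p)))
  have hlp : l ∈ zpowers (y : RuOrder.H) := by
    rw [← hp', ha, C.v_zero, one_mul]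
    exact p.2
  have hol : orderOf l = 13 := by
    have h2 : orderOf (⟨l, hlp⟩ : zpowers (y : RuOrder.H)) ∣ 13 := by
      have := orderOf_dvd_natCard (⟨l, hlp⟩ : zpowers (y : RuOrder.H))
      rwa [Nat.card_zpowers, hy'] at this
    rw [Subgroup.orderOf_mk] at h2
    rcases (Nat.dvd_prime (by norm_num)).1 h2 with h3 | h3
    · exact absurd (orderOf_eq_one_iff.1 h3) h1
    · exact h3
  have h5 := H436.TwoRu.cent13 _ hol
  have h6 : Nat.card C.L ∣ Nat.card (centralizer ({l} : Set RuOrder.H)) :=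
    Subgroup.card_dvd_of_le fun m hm => mem_centralizer_singleton_iff.2 (h m hm).symm
  rw [hL] at h6
  have h7 := h6.trans h5
  norm_num at h7

/-- the four-group -/
def T4 : Subgroup RuOrder.H where
  carrier := Set.range C.v
  one_mem' := ⟨0, C.v_zero⟩
  mul_mem' := by
    rintro _ _ ⟨a, rfl⟩ ⟨b, rfl⟩
    exact ⟨a + b, C.v_add a b⟩
  inv_mem' := by
    rintro _ ⟨a, rfl⟩
    exact ⟨a, (C.v_inv a).symm⟩

theorem card_T4 : Nat.card (T4 C) = 4 := by
  have h : Nat.card A4 = 4 := by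
    rw [Nat.card_prod, Nat.card_eq_fintype_card, ZMod.card]
  rw [← h]
  exact (Nat.card_congr (Equiv.ofInjective C.v (fun a b h => C.v_inj h))).symm

theorem nor_B {a : A4} (ha : a ≠ 0) : Nor (C.v a) (T4 C) where
  two := by
    apply IsPGroup.of_card (n := 2)
    rw [card_T4]; norm_num
  le := by
    rintro _ ⟨b, rfl⟩
    exact C.v_v_comm b a
  nor := by
    rintro c hc _ ⟨b, rfl⟩
    obtain ⟨d, l, hl, rfl⟩ := C.cent a ha c hc
    refine ⟨b, ?_⟩
    have h1 := C.v_comm b l hl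
    have h2 := C.v_v_comm b d
    rw [eq_mul_inv_iff_mul_eq]
    calc C.v b * (C.v d * l) = (C.v b * C.v d) * l := by group
      _ = C.v d * (C.v b * l) := by rw [h2]; group
      _ = C.v d * l * C.v b := by rw [h1]; group

theorem fus {a b : A4} (ha : a ≠ 0) (hb : b ≠ 0) {g : RuOrder.H} (hg : g * C.v a * g⁻¹ = C.v b) (n : RuOrder.H) :
    n ∈ T4 C ↔ g * n * g⁻¹ ∈ T4 C := by
  have key : ∀ {a b : A4}, a ≠ 0 → b ≠ 0 → ∀ {g : RuOrder.H}, g * C.v a * g⁻¹ = C.v b → ∀ n ∈ T4 C,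
      g * n * g⁻¹ ∈ T4 C := by
    rintro a b ha hb g hg _ ⟨c, rfl⟩
    -- `g (v c) g⁻¹` centralises `C (v b)`
    have h1 : ∀ k : RuOrder.H, k * C.v b = C.v b * k → (g * C.v c * g⁻¹) * k = k * (g * C.v c * g⁻¹) := by
      intro k hk
      obtain ⟨d, l, hl, h2⟩ := C.cent a ha (g⁻¹ * k * g) (by
        rw [← hg] at hk
        calc g⁻¹ * k * g * C.v a = g⁻¹ * (k * (g * C.v a * g⁻¹)) * g := by group
          _ = g⁻¹ * (g * C.v a * g⁻¹ * k) * g := by rw [hk]
          _ = C.v a * (g⁻¹ * k * g) := by group)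
      have h3 : C.v c * (C.v d * l) = C.v d * l * C.v c := by
        have h4 := C.v_comm c l hl
        have h5 := C.v_v_comm c d
        calc C.v c * (C.v d * l) = (C.v c * C.v d) * l := by group
          _ = C.v d * (C.v c * l) := by rw [h5]; group
          _ = C.v d * l * C.v c := by rw [h4]; group
      rw [← h2] at h3
      calc (g * C.v c * g⁻¹) * k = g * (C.v c * (g⁻¹ * k * g)) * g⁻¹ := by group
        _ = g * (g⁻¹ * k * g * C.v c) * g⁻¹ := by rw [h3]
        _ = _ := by group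
    obtain ⟨d, l, hl, h2⟩ := C.cent b hb (g * C.v c * g⁻¹) (h1 _ rfl)
    have h3 : l = 1 := by
      apply cen_L C hl
      intro m hm
      have h4 := h1 m (C.v_comm b m hm).symm
      rw [h2] at h4
      have h5 := C.v_comm d m hm
      calc l * m = (C.v d)⁻¹ * (C.v d * l * m) := by group
        _ = (C.v d)⁻¹ * (m * (C.v d * l)) := by rw [h4]
        _ = (C.v d)⁻¹ * ((m * C.v d) * l) := by group
        _ = m * l := by rw [← h5]; group
    rw [h2, h3, mul_one]
    exact ⟨d, rfl⟩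
  refine ⟨key ha hb hg n, fun h => ?_⟩
  have h1 := key hb ha (g := g⁻¹) (by rw [← hg]; group) _ h
  have e : g⁻¹ * (g * n * g⁻¹) * g⁻¹⁻¹ = n := by group
  rwa [e] at h1

end B

theorem noCfg : NoCfg RuOrder.H := by
  apply noCfg_of
  intro D x h z hz hz1
  have := H436.TwoRu.finite_H
  have hzz : z * z = 1 := h.e8.inv z hz
  rcases OddHalf.D9.Ru.XLevel.isConj_or hzz hz1 with h1 | h1
  · exact no_exp h nor_A OddHalf.D9.Ru.XR.S_mem_R OddHalf.D9.Ru.XLevel.SS_ne z hz h1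
  obtain ⟨C, -⟩ := KFacts.Ru.exists_core H436.TwoRu.isoH
  have hcj : ∀ a : RuB.A4, a ≠ 0 → IsConj T (C.v a) := by
    intro a ha
    rcases OddHalf.D9.Ru.XLevel.isConj_or (C.v_sq a) (fun h2 => ha (C.v_eq_one h2)) with h2 | h2
    · exfalso
      have h3 := RuB.Local.card_cent_v (C := C) ha
      rw [H805.NilSp.card_cent_isConj h2, OddHalf.D9.Ru.XCover.card_cent] at h3
      norm_num at h3
    · exact h2
  obtain ⟨a, ha⟩ := H436.TwoRu.exists_ne
  refine no_four h (nor_B C ha) (card_T4 C) ⟨a, rfl⟩ ?_ z hz hz1 ((hcj a ha).symm.trans h1)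
  rintro _ ⟨b, rfl⟩ hb
  have hb' : b ≠ 0 := by
    rintro rfl
    exact hb C.v_zero
  obtain ⟨g, hg⟩ := isConj_iff.1 ((hcj a ha).symm.trans (hcj b hb'))
  exact ⟨g, hg, fus C ha hb' hg⟩

end Cfsg.Agent.H489.KKL.RuRow

namespace Cfsg.Agent.H489.KKL

open Cfsg Cfsg.Agent.H613.KKL Cfsg.Agent.SporadicB

universe u

theorem E_Ru {S : Type u} [Group S] [Finite S] (h : Spor.IsoRu S) : NoCfg S := by
  obtain ⟨e⟩ := h
  exact noCfg_congr (e.trans RuLat.Main.equiv) RuRow.noCfg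

end Cfsg.Agent.H489.KKL
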