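import Cfsg.Agent.H489.KKL.Kill
import Cfsg.Agent.CTwoTab.Suz

/-!
# S4546, row Suz (helper489)

2A : `O_2(C(z)) = 2^(1+6)`; 2B : `C(z) = (2² × L₃(4)):2` with `N(2²)` transitive on the involutions of `2²`.
-/

set_option autoImplicit false

namespace Cfsg.Agent.H489.KKL.SuzRow

open Cfsg Subgroup Cfsg.Agent.H613.KKL
open Cfsg.Agent.SuzThree.CentA Cfsg.Agent.KFacts.SuzTwoB Cfsg.Agent.KFacts.SuzLFour
open Cfsg.Spor (Suz)

theorem fin : Finite Suz := Nat.finite_of_card_ne_zero (by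
  rw [Cfsg.Agent.SporadicRecognition.SuzOrder.card_Suz]; norm_num)

theorem nor_A : Nor z0 Cfsg.Agent.SuzThree.QZero.Q0 where
  two := Cfsg.Agent.SuzThree.QZero.isPGroup_Q0
  le := KFacts.SuzLarge.large.comm_z
  nor := KFacts.SuzLarge.large.conj_mem

theorem x0_V {v : Suz} (hv : v ∈ V) : x0 * v * x0⁻¹ ∈ V := by
  rcases mem_V.1 hv with rfl | rfl | rfl | rfl
  · rw [mul_one, mul_inv_cancel]; exact V.one_mem
  · exact mem_V.2 (Or.inr (Or.inr (Or.inl rfl)))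
  · refine mem_V.2 (Or.inr (Or.inr (Or.inr ?_)))
    rw [e2_eq, e1]; group
  · refine mem_V.2 (Or.inr (Or.inl ?_))
    rw [e2]; group

theorem x0_V' {v : Suz} : v ∈ V ↔ x0 * v * x0⁻¹ ∈ V := by
  refine ⟨x0_V, fun h => ?_⟩
  have h1 := x0_V (x0_V h)
  have e : x0 * (x0 * (x0 * v * x0⁻¹) * x0⁻¹) * x0⁻¹ = (x0 * x0 * x0) * v * (x0 * x0 * x0)⁻¹ := by group
  rwa [e, x0_cube, one_mul, inv_one, mul_one] at h1

theorem xe_V {v : Suz} (hv : v ∈ V) : xe * v * xe⁻¹ ∈ V := by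
  have h0 : xe * e0 * xe⁻¹ = e0 := by rw [mem_CE.1 xe_mem, mul_inv_cancel_right]
  have h1 : xe * e1 * xe⁻¹ = e2 := by rw [xe_e1, mul_inv_cancel_right]
  rcases mem_V.1 hv with rfl | rfl | rfl | rfl
  · rw [mul_one, mul_inv_cancel]; exact V.one_mem
  · rw [h0]; exact hv
  · rw [h1]; exact mem_V.2 (Or.inr (Or.inr (Or.inr rfl)))
  · have h2 : xe * e2 * xe⁻¹ = e1 := by
      calc xe * e2 * xe⁻¹ = (xe * e0 * xe⁻¹) * (xe * e1 * xe⁻¹) := by rw [← e01]; group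
        _ = e1 := by rw [h0, h1, e02]
    rw [h2]; exact mem_V.2 (Or.inr (Or.inr (Or.inl rfl)))

theorem nor_B : Nor e0 V where
  two := by
    apply IsPGroup.of_card (n := 2)
    rw [card_V]; norm_num
  le := fun v hv => V_abel v hv e0 (mem_V.2 (Or.inr (Or.inl rfl)))
  nor := by
    intro c hc v hv
    have := fin
    have hcm : c ∈ CE := mem_CE.2 hc
    have hVL : ∀ {g : Suz}, g ∈ VL → g * v * g⁻¹ ∈ V := by
      intro g hg
      rw [VL_cent hg hv, mul_inv_cancel_right]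
      exact hv
    by_cases h1 : c ∈ VL
    · exact hVL h1
    · have h2 : xe⁻¹ * c ∈ VL := by
        have h3 := Subgroup.mul_mem_iff_of_index_two idx.1 (a := (⟨xe⁻¹, inv_mem xe_mem⟩ : ↥CE)) (b := ⟨c, hcm⟩)
        rw [mem_subgroupOf, mem_subgroupOf, mem_subgroupOf] at h3
        exact h3.2 ⟨fun h => absurd (by simpa using inv_mem h) xe_notin, fun h => absurd h h1⟩
      have h3 := xe_V (hVL h2)
      have e : xe * (xe⁻¹ * c * v * (xe⁻¹ * c)⁻¹) * xe⁻¹ = c * v * c⁻¹ := by group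
      rwa [e] at h3

theorem noCfg : NoCfg Suz := by
  apply noCfg_of
  intro D x h z hz hz1
  have := fin
  rcases CTwoTab.Suz.classes (h.e8.inv z hz) hz1 with h1 | h1
  · refine no_card h nor_A ?_ z hz h1
    rw [KFacts.SuzR.card_R]; norm_num
  refine no_four h nor_B card_V (mem_V.2 (Or.inr (Or.inl rfl))) ?_ z hz hz1 h1
  intro s hs hs1
  rcases mem_V.1 hs with rfl | rfl | rfl | rfl
  · exact absurd rfl hs1
  · exact ⟨1, by group, fun n => by rw [one_mul, inv_one, mul_one]⟩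
  · exact ⟨x0, rfl, fun n => x0_V'⟩
  · refine ⟨x0 * x0, e2_eq.symm, fun n => ?_⟩
    rw [x0_V', x0_V']
    have e : x0 * (x0 * n * x0⁻¹) * x0⁻¹ = x0 * x0 * n * (x0 * x0)⁻¹ := by group
    rw [e]

end Cfsg.Agent.H489.KKL.SuzRow

namespace Cfsg.Agent.H489.KKL

open Cfsg Cfsg.Agent.H613.KKL

universe u

theorem E_Suz {S : Type u} [Group S] [Finite S] (h : Spor.IsoSuz S) : NoCfg S := by
  obtain ⟨e⟩ := h
  exact noCfg_congr e SuzRow.noCfg

end Cfsg.Agent.H489.KKL
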